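import Mathlib.RingTheory.HopfAlgebra.Convolution
import Mathlib.RingTheory.Coalgebra.Convolution
import Mathlib.RingTheory.TensorProduct.Free
import Mathlib.LinearAlgebra.Charpoly.Basic
import Mathlib.LinearAlgebra.Charpoly.BaseChange
import Mathlib.RingTheory.TensorProduct.Finite
import Mathlib.RingTheory.Ideal.GoingDown
import Mathlib.LinearAlgebra.Charpoly.ToMatrix
import Mathlib.RingTheory.Ideal.GoingUp
import Mathlib.RingTheory.Artinian.Ring
import Mathlib.RingTheory.LocalRing.ResidueField.Ideal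

/-!
Norms along the action of a finite group scheme on an affine scheme.
-/

open TensorProduct WithConv

universe u

namespace Groth.Agent.FinGrpInv

variable {k : Type u} [Field k]
variable {H : Type u} [CommRing H] [HopfAlgebra k H]

/-- The characteristic polynomial of a multiplication. -/
noncomputable def chi {R : Type u} [CommRing R] [Algebra k R] [Module.Finite k H] (x : R ⊗[k] H) :
    Polynomial R :=
  (Algebra.lmul R (R ⊗[k] H) x).charpoly

variable {R R' : Type u} [CommRing R] [Algebra k R] [CommRing R'] [Algebra k R']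

/-- The base change map. -/
noncomputable def baseMap (f : R →ₐ[k] R') : R ⊗[k] H →ₐ[k] R' ⊗[k] H :=
  Algebra.TensorProduct.map f (AlgHom.id k H)

lemma repr_baseMap {ι : Type*} (b : Module.Basis ι k H) (f : R →ₐ[k] R') (z : R ⊗[k] H) (i : ι) :
    (Algebra.TensorProduct.basis R' b).repr (baseMap f z) i =
      f ((Algebra.TensorProduct.basis R b).repr z i) := by
  induction z with
  | zero => simp
  | add p q hp hq => simp [hp, hq]
  | tmul r h => simp [baseMap]

lemma chi_map [Module.Finite k H] (f : R →ₐ[k] R') (x : R ⊗[k] H) :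
    (chi x).map f.toRingHom = chi (baseMap f x) := by
  classical
  let b := Module.Free.chooseBasis k H
  rw [chi, chi, ← LinearMap.charpoly_toMatrix _ (Algebra.TensorProduct.basis R b),
    ← LinearMap.charpoly_toMatrix _ (Algebra.TensorProduct.basis R' b), ← Matrix.charpoly_map]
  congr 1
  ext i j
  simp only [RingHom.mapMatrix_apply, Matrix.map_apply, LinearMap.toMatrix_apply,
    AlgHom.toRingHom_eq_coe, RingHom.coe_coe]
  rw [← repr_baseMap]
  simp [baseMap]

lemma chi_congr [Module.Finite k H] (θ : (R ⊗[k] H) ≃ₐ[R] (R ⊗[k] H)) (x : R ⊗[k] H) :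
    chi (θ x) = chi x := by
  rw [chi, chi, show Algebra.lmul R (R ⊗[k] H) (θ x) = θ.toLinearEquiv.conj (Algebra.lmul R (R ⊗[k] H) x) from
    LinearMap.ext fun y => by simp [LinearEquiv.conj_apply], LinearEquiv.charpoly_conj]

lemma aeval_chi [Module.Finite k H] (x : R ⊗[k] H) : Polynomial.aeval x (chi x) = 0 := by
  have h := LinearMap.aeval_self_charpoly (Algebra.lmul R (R ⊗[k] H) x)
  rw [Polynomial.aeval_algHom_apply] at h
  have := LinearMap.congr_fun h 1
  simpa [chi] using this

lemma chi_coeff_zero_ne [Module.Finite k H] {K : Type u} [Field K] [Algebra k K] {x : K ⊗[k] H} (hx : IsUnit x) :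
    (chi x).coeff 0 ≠ 0 := by
  intro h
  have h1 : IsUnit (LinearMap.det (Algebra.lmul K (K ⊗[k] H) x)) :=
    (hx.map (Algebra.lmul K (K ⊗[k] H))).map LinearMap.det
  rw [LinearMap.det_eq_sign_charpoly_coeff, ← chi, h, mul_zero] at h1
  exact not_isUnit_zero h1

lemma comp_convMul {C D : Type u} [CommRing C] [Algebra k C] [CommRing D] [Algebra k D]
    (g : C →ₐ[k] D) (a b : WithConv (H →ₐ[k] C)) :
    g.comp (a * b).ofConv = (toConv (g.comp a.ofConv) * toConv (g.comp b.ofConv)).ofConv := by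
  ext h
  rw [AlgHom.comp_apply, AlgHom.convMul_apply, AlgHom.convMul_apply]
  generalize CoalgebraStruct.comul (R := k) h = z
  induction z with
  | zero => simp
  | add p q hp hq => simp only [map_add, hp, hq]
  | tmul p q => simp

/-- The hom `H → (R ⊗ H) ⊗ H` in the middle factor. -/
noncomputable def iota₁ : WithConv (H →ₐ[k] (R ⊗[k] H) ⊗[k] H) :=
  toConv ((Algebra.TensorProduct.includeLeft : R ⊗[k] H →ₐ[k] (R ⊗[k] H) ⊗[k] H).comp
    Algebra.TensorProduct.includeRight)

/-- The hom `H → (R ⊗ H) ⊗ H` in the last factor. -/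
noncomputable def iota₂ : WithConv (H →ₐ[k] (R ⊗[k] H) ⊗[k] H) :=
  toConv Algebra.TensorProduct.includeRight

/-- The endomorphism determined by a hom out of `H`. -/
noncomputable def shearHom (φ : WithConv (H →ₐ[k] (R ⊗[k] H) ⊗[k] H)) :
    (R ⊗[k] H) ⊗[k] H →ₐ[R ⊗[k] H] (R ⊗[k] H) ⊗[k] H :=
  Algebra.TensorProduct.lift (Algebra.ofId _ _) φ.ofConv fun _ _ => Commute.all _ _

lemma shearHom_iota (φ : WithConv (H →ₐ[k] (R ⊗[k] H) ⊗[k] H)) :
    ((shearHom φ).restrictScalars k).comp (iota₂ (R := R)).ofConv = φ.ofConv ∧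
    ((shearHom φ).restrictScalars k).comp (iota₁ (R := R)).ofConv = (iota₁ (R := R)).ofConv := by
  refine ⟨AlgHom.ext fun h => ?_, AlgHom.ext fun h => ?_⟩ <;>
    simp [shearHom, iota₁, iota₂, Algebra.ofId_apply]

lemma shearHom_comp (φ ψ : WithConv (H →ₐ[k] (R ⊗[k] H) ⊗[k] H))
    (h : ((shearHom φ).restrictScalars k).comp ψ.ofConv = (iota₂ (R := R)).ofConv) :
    (shearHom φ).comp (shearHom ψ) = AlgHom.id _ _ := by
  refine Algebra.TensorProduct.ext (AlgHom.ext fun z => ?_) ?_
  · simp [shearHom, Algebra.ofId_apply]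
  · refine AlgHom.ext fun y => ?_
    have := AlgHom.congr_fun h y
    simpa [shearHom, iota₂, ← Algebra.TensorProduct.one_def] using this

lemma comp_convOne {C : Type u} [CommRing C] [Algebra k C] (g : H →ₐ[k] C) :
    toConv (g.comp (1 : WithConv (H →ₐ[k] H)).ofConv) = 1 := by
  apply WithConv.ofConv_injective
  ext y
  simp [AlgHom.convOne_def, Algebra.ofId_apply]

lemma antipode_mul {C : Type u} [CommRing C] [Algebra k C] (g : WithConv (H →ₐ[k] C)) :
    toConv (g.ofConv.comp (HopfAlgebra.antipodeAlgHom k H)) * g = 1 := by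
  have h := comp_convMul g.ofConv (toConv (HopfAlgebra.antipodeAlgHom k H)) (toConv (AlgHom.id k H))
  rw [AlgHom.antipode_id_cancel, AlgHom.comp_id] at h
  exact WithConv.ofConv_injective (h.symm.trans (congrArg WithConv.ofConv (comp_convOne g.ofConv)))

lemma mul_antipode {C : Type u} [CommRing C] [Algebra k C] (g : WithConv (H →ₐ[k] C)) :
    g * toConv (g.ofConv.comp (HopfAlgebra.antipodeAlgHom k H)) = 1 := by
  have h := comp_convMul g.ofConv (toConv (AlgHom.id k H)) (toConv (HopfAlgebra.antipodeAlgHom k H))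
  have h0 : toConv (AlgHom.id k H) * toConv (HopfAlgebra.antipodeAlgHom k H) = 1 := by
    apply WithConv.ofConv_injective
    ext y
    rw [AlgHom.convMul_apply]
    refine Eq.trans ?_ ((HopfAlgebra.mul_antipode_lTensor_comul_apply (R := k) y).trans (by
      simp [AlgHom.convOne_def, Algebra.ofId_apply]))
    generalize CoalgebraStruct.comul (R := k) y = z
    induction z with
    | zero => simp
    | add p q hp hq => simp only [map_add, hp, hq]
    | tmul p q => simp
  rw [h0, AlgHom.comp_id] at h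
  exact WithConv.ofConv_injective (h.symm.trans (congrArg WithConv.ofConv (comp_convOne g.ofConv)))

/-- The inverse of the middle factor. -/
noncomputable def iota₁' : WithConv (H →ₐ[k] (R ⊗[k] H) ⊗[k] H) :=
  toConv ((iota₁ (R := R) (k := k) (H := H)).ofConv.comp (HopfAlgebra.antipodeAlgHom k H))

/-- The shear automorphism. -/
noncomputable def shear : ((R ⊗[k] H) ⊗[k] H) ≃ₐ[R ⊗[k] H] ((R ⊗[k] H) ⊗[k] H) :=
  AlgEquiv.ofAlgHom (shearHom (iota₁ (R := R) (k := k) (H := H) * iota₂))
    (shearHom (iota₁' (R := R) (k := k) (H := H) * iota₂))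
    (shearHom_comp _ _ (by
      obtain ⟨e1, e2⟩ := shearHom_iota (R := R) (k := k) (H := H) (iota₁ * iota₂)
      rw [comp_convMul, e1, toConv_ofConv, iota₁', ofConv_toConv, ← AlgHom.comp_assoc, e2]
      simp only [toConv_ofConv]
      refine congrArg WithConv.ofConv ((@mul_assoc (WithConv (H →ₐ[k] (R ⊗[k] H) ⊗[k] H)) _ _ _ _).symm.trans ?_)
      exact (congrArg (· * (iota₂ (R := R) (k := k) (H := H))) (antipode_mul _)).trans (@one_mul (WithConv (H →ₐ[k] (R ⊗[k] H) ⊗[k] H)) _ _)))
    (shearHom_comp _ _ (by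
      obtain ⟨e1, e2⟩ := shearHom_iota (R := R) (k := k) (H := H) (iota₁' * iota₂)
      rw [comp_convMul, e1, e2, toConv_ofConv, toConv_ofConv, iota₁']
      refine congrArg WithConv.ofConv ((@mul_assoc (WithConv (H →ₐ[k] (R ⊗[k] H) ⊗[k] H)) _ _ _ _).symm.trans ?_)
      exact (congrArg (· * (iota₂ (R := R) (k := k) (H := H))) (mul_antipode _)).trans (@one_mul (WithConv (H →ₐ[k] (R ⊗[k] H) ⊗[k] H)) _ _)))

/-- The comultiplication in the last factor. -/
lemma shear_baseMap (z : R ⊗[k] H) :
    shear (baseMap (Algebra.TensorProduct.includeLeft : R →ₐ[k] R ⊗[k] H) z) =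
      (Algebra.TensorProduct.assoc k k k R H H).symm
        (Algebra.TensorProduct.map (AlgHom.id k R) (Bialgebra.comulAlgHom k H) z) := by
  induction z with
  | zero => simp
  | add p q hp hq => simp only [map_add, hp, hq]
  | tmul r h =>
    simp only [shear, baseMap, Algebra.TensorProduct.map_tmul, AlgEquiv.ofAlgHom_apply, AlgHom.id_apply,
      shearHom, Algebra.TensorProduct.lift_tmul, Algebra.TensorProduct.includeLeft_apply,
      Algebra.ofId_apply, AlgHom.convMul_apply, Bialgebra.comulAlgHom_apply]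
    generalize CoalgebraStruct.comul (R := k) h = w
    induction w with
    | zero => simp
    | add p q hp hq => simp only [map_add, mul_add, tmul_add, hp, hq]
    | tmul p q => simp [iota₁, iota₂]

/-- A coaction algebra map. -/
structure IsCoaction (t : R →ₐ[k] R ⊗[k] H) : Prop where
  coassoc : ∀ r, baseMap t (t r) = (Algebra.TensorProduct.assoc k k k R H H).symm
    (Algebra.TensorProduct.map (AlgHom.id k R) (Bialgebra.comulAlgHom k H) (t r))
  counit : ∀ r, Algebra.TensorProduct.lift (AlgHom.id k R) ((Algebra.ofId k R).comp (Bialgebra.counitAlgHom k H))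
    (fun _ _ => Commute.all _ _) (t r) = r

variable [Module.Finite k H] {t : R →ₐ[k] R ⊗[k] H}

lemma chi_invariant (ht : IsCoaction t) (a : R) (i : ℕ) :
    t ((chi (t a)).coeff i) = (chi (t a)).coeff i ⊗ₜ[k] (1 : H) := by
  have h1 := chi_map t (t a)
  rw [ht.coassoc, ← shear_baseMap, chi_congr, ← chi_map] at h1
  have := congrArg (fun p => Polynomial.coeff p i) h1
  simpa [Polynomial.coeff_map] using this

lemma aeval_chi_self (ht : IsCoaction t) (a : R) : Polynomial.aeval a (chi (t a)) = 0 := by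
  let e : R ⊗[k] H →ₐ[R] R :=
    Algebra.TensorProduct.lift (AlgHom.id R R) ((Algebra.ofId k R).comp (Bialgebra.counitAlgHom k H))
      fun _ _ => Commute.all _ _
  have he : e (t a) = a := by
    refine Eq.trans ?_ (ht.counit a)
    generalize t a = z
    induction z with
    | zero => simp
    | add p q hp hq => simp only [map_add, hp, hq]
    | tmul r h => simp [e]
  rw [← he, Polynomial.aeval_algHom_apply, he, aeval_chi, map_zero]

theorem isIntegral (ht : IsCoaction t) (A : Subalgebra k R) (hA : ∀ a, a ∈ A ↔ t a = a ⊗ₜ[k] (1 : H)) (a : R) :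
    IsIntegral A a := by
  have hmem : ((chi (t a)).coeffs : Set R) ⊆ (A.toSubring : Set R) := fun c hc => by
    obtain ⟨i, -, rfl⟩ := Polynomial.mem_coeffs_iff.1 hc
    exact (hA _).2 (chi_invariant ht a i)
  refine ⟨(chi (t a)).toSubring A.toSubring hmem, ?_, ?_⟩
  · rw [Polynomial.monic_toSubring]
    exact LinearMap.charpoly_monic _
  · rw [show (algebraMap A R) = A.toSubring.subtype from rfl, Polynomial.eval₂_eq_eval_map,
      Polynomial.map_toSubring, ← Polynomial.coe_aeval_eq_eval]
    exact aeval_chi_self ht a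

/-- Orbits are fibres. -/
theorem exists_prime_of_comap_eq (ht : IsCoaction t) (A : Subalgebra k R)
    (hA : ∀ a, a ∈ A ↔ t a = a ⊗ₜ[k] (1 : H)) (q q' : Ideal R) [q.IsPrime] [q'.IsPrime]
    (h : q.comap (algebraMap A R) = q'.comap (algebraMap A R)) :
    ∃ Q : Ideal (R ⊗[k] H), Q.IsPrime ∧ Q.comap (algebraMap R (R ⊗[k] H)) = q ∧ Q.comap t = q' := by
  classical
  let K := q.ResidueField
  let f : R →ₐ[k] K := IsScalarTower.toAlgHom k R K
  let F : R ⊗[k] H →ₐ[k] K ⊗[k] H := baseMap f
  have hf : ∀ r, f r = 0 ↔ r ∈ q := fun r => Ideal.algebraMap_residueField_eq_zero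
  have hFs : ∀ r, F (r ⊗ₜ[k] (1 : H)) = algebraMap K (K ⊗[k] H) (f r) := fun r => by simp [F, baseMap]
  have hs : ∀ (P : Ideal (K ⊗[k] H)), P.IsPrime → (P.comap F).comap (algebraMap R (R ⊗[k] H)) = q := by
    intro P hP
    ext r
    rw [Ideal.mem_comap, Ideal.mem_comap, Algebra.TensorProduct.algebraMap_apply, Algebra.algebraMap_self,
      RingHom.id_apply, hFs, ← hf, ← Ideal.mem_comap]
    rw [Ideal.eq_bot_of_prime (P.comap (algebraMap K (K ⊗[k] H))), Ideal.mem_bot]
  have hover : ∀ (P : Ideal (K ⊗[k] H)), P.IsPrime →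
      ((P.comap F).comap t).comap (algebraMap A R) = q.comap (algebraMap A R) := by
    intro P hP
    ext c
    have hc : t (algebraMap A R c) = algebraMap R (R ⊗[k] H) (algebraMap A R c) := by
      rw [Algebra.TensorProduct.algebraMap_apply]
      exact (hA _).1 c.2
    rw [Ideal.mem_comap, Ideal.mem_comap, hc, ← Ideal.mem_comap, hs P hP, Ideal.mem_comap]
  have : Finite (PrimeSpectrum (K ⊗[k] H)) := by
    have : IsArtinianRing (K ⊗[k] H) := IsArtinianRing.of_finite K _
    infer_instance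
  have := Fintype.ofFinite (PrimeSpectrum (K ⊗[k] H))
  have hex : ∃ P : PrimeSpectrum (K ⊗[k] H), q' ≤ (P.asIdeal.comap F).comap t := by
    by_contra hne
    push Not at hne
    have hsub : ¬ (q' : Set R) ⊆ ⋃ P ∈ (↑(Finset.univ : Finset (PrimeSpectrum (K ⊗[k] H))) : Set (PrimeSpectrum (K ⊗[k] H))),
        (((P.asIdeal.comap F).comap t : Ideal R) : Set R) := by
      have : Nontrivial (K ⊗[k] H) := (Algebra.TensorProduct.lift (AlgHom.id K K)
        ((Algebra.ofId k K).comp (Bialgebra.counitAlgHom k H)) fun _ _ => Commute.all _ _).toRingHom.domain_nontrivial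
      rw [Ideal.subset_union_prime (f := fun P : PrimeSpectrum (K ⊗[k] H) => (P.asIdeal.comap F).comap t)
        (Classical.arbitrary _) (Classical.arbitrary _)
        fun P _ _ _ => Ideal.IsPrime.comap _]
      rintro ⟨P, -, hP⟩
      exact hne P hP
    obtain ⟨a, ha, hna⟩ := Set.not_subset.1 hsub
    simp only [Finset.coe_univ, Set.mem_univ, Set.iUnion_true, Set.mem_iUnion, not_exists] at hna
    have hunit : IsUnit (F (t a)) := by
      by_contra hnu
      obtain ⟨M, hM, haM⟩ := exists_max_ideal_of_mem_nonunits hnu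
      exact hna ⟨M, hM.isPrime⟩ haM
    have h1 := chi_coeff_zero_ne hunit
    rw [← chi_map, Polynomial.coeff_map] at h1
    refine h1 ((hf _).2 ?_)
    have hcA : (chi (t a)).coeff 0 ∈ A := (hA _).2 (chi_invariant ht a 0)
    have hcq : (chi (t a)).coeff 0 ∈ q' := by
      have h0 := aeval_chi_self ht a
      rw [← Polynomial.X_mul_divX_add (chi (t a)), map_add, map_mul, Polynomial.aeval_X,
        Polynomial.aeval_C, Algebra.algebraMap_self, RingHom.id_apply] at h0
      rw [eq_neg_of_add_eq_zero_right h0]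
      exact q'.neg_mem (q'.mul_mem_right _ ha)
    exact (SetLike.ext_iff.1 h ⟨_, hcA⟩).2 hcq
  obtain ⟨P, hP⟩ := hex
  refine ⟨P.asIdeal.comap F, Ideal.IsPrime.comap _, hs _ P.2, ?_⟩
  have : Algebra.IsIntegral A R := ⟨isIntegral ht A hA⟩
  refine (eq_of_le_of_not_lt hP fun hlt => ?_).symm
  exact (Ideal.IsIntegral.comap_lt_comap (R := A) hlt).ne (h.symm.trans (hover _ P.2).symm)

/-- Going down for the invariants. -/
theorem hasGoingDown (ht : IsCoaction t) (A : Subalgebra k R) (hA : ∀ a, a ∈ A ↔ t a = a ⊗ₜ[k] (1 : H)) :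
    Algebra.HasGoingDown A R := by
  refine ⟨fun {p'} hp' q hq hlt => ?_⟩
  have : Algebra.IsIntegral A R := ⟨isIntegral ht A hA⟩
  obtain ⟨q₂, -, hq₂, hq₂c⟩ := Ideal.exists_ideal_over_prime_of_isIntegral p' (⊥ : Ideal R) (by
    rw [Ideal.comap_bot_of_injective]
    · exact bot_le
    · exact Subtype.val_injective)
  obtain ⟨q₃, hle, hq₃, hq₃c⟩ := Ideal.exists_ideal_over_prime_of_isIntegral (q.under A) q₂ (hq₂c.trans_le hlt.le)
  obtain ⟨Q, hQ, hQs, hQt⟩ := exists_prime_of_comap_eq ht A hA q₃ q hq₃c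
  have : Q.LiesOver q₃ := ⟨hQs.symm⟩
  obtain ⟨Q', hQ'le, hQ', hQ'o⟩ := Ideal.exists_ideal_le_liesOver_of_le (R := R) (S := R ⊗[k] H)
    (p := q₂) (q := q₃) Q hle
  refine ⟨Q'.comap t, (Ideal.comap_mono hQ'le).trans hQt.le, Ideal.IsPrime.comap _, ⟨?_⟩⟩
  ext c
  have hc : t (algebraMap A R c) = algebraMap R (R ⊗[k] H) (algebraMap A R c) := by
    rw [Algebra.TensorProduct.algebraMap_apply]
    exact (hA _).1 c.2
  rw [Ideal.mem_comap, Ideal.mem_comap, hc, ← Ideal.mem_comap]
  rw [← Ideal.under_def, ← hQ'o.over, ← Ideal.mem_comap, hq₂c]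

end Groth.Agent.FinGrpInv
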