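import Groth.Prelude.Def_HopfRep
import Groth.Prelude.Def_CAlg
import Groth.Agent.Lib.Comodule.Basic
import Groth.Agent.Lib.FinGrpInv.Norm
import Groth.Agent.Lib.FinGrpInv.Depth
import Mathlib.RingTheory.Adjoin.Tower
import Mathlib.RingTheory.IntegralClosure.IsIntegralClosure.Basic
import Mathlib.RingTheory.FiniteType

/-!
Invariants of finite linearly reductive group schemes: Serre's conditions.
-/

universe u

open TensorProduct

namespace Groth.Agent.FinGrpInv

variable {k : Type u} [Field k] {H : Type u} [CommRing H] [HopfAlgebra k H] [Module.Finite k H]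
variable {R : Type u} [CommRing R] [Algebra k R] [HopfRep.Comod k H R]

/-- The coaction as an algebra map. -/
noncomputable def coactHom (hmul : ∀ x y : R, HopfRep.Comod.coact (k := k) (A := H) (x * y) =
        HopfRep.Comod.coact (k := k) (A := H) x * HopfRep.Comod.coact (k := k) (A := H) y)
    (hone : HopfRep.Comod.coact (k := k) (A := H) (1 : R) = 1) : R →ₐ[k] R ⊗[k] H :=
  AlgHom.ofLinearMap (HopfRep.Comod.coact (k := k) (A := H)) hone hmul

variable (hmul : ∀ x y : R, HopfRep.Comod.coact (k := k) (A := H) (x * y) =
        HopfRep.Comod.coact (k := k) (A := H) x * HopfRep.Comod.coact (k := k) (A := H) y)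
    (hone : HopfRep.Comod.coact (k := k) (A := H) (1 : R) = 1)

omit [Module.Finite k H] in
lemma isCoaction_coactHom : IsCoaction (coactHom hmul hone) where
  coassoc r := by
    have h := LinearMap.congr_fun (HopfRep.Comod.coassoc (k := k) (A := H) (V := R)) r
    simp only [LinearMap.comp_apply, LinearEquiv.coe_coe] at h
    have e1 : ∀ z : R ⊗[k] H, (Algebra.TensorProduct.assoc k k k R H H) (baseMap (coactHom hmul hone) z) =
        TensorProduct.assoc k R H H ((HopfRep.Comod.coact (k := k) (A := H)).rTensor H z) := by
      intro z
      induction z with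
      | zero => simp
      | add p q hp hq => simp only [map_add, hp, hq]
      | tmul x y => simp [baseMap, coactHom]; rfl
    have e2 : ∀ z : R ⊗[k] H, Algebra.TensorProduct.map (AlgHom.id k R) (Bialgebra.comulAlgHom k H) z =
        (CoalgebraStruct.comul (R := k) (A := H)).lTensor R z := by
      intro z
      induction z with
      | zero => simp
      | add p q hp hq => simp only [map_add, hp, hq]
      | tmul x y => simp
    rw [AlgEquiv.eq_symm_apply, e1, e2]
    exact h
  counit r := by
    have h := LinearMap.congr_fun (HopfRep.Comod.counit_comp (k := k) (A := H) (V := R)) r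
    simp only [LinearMap.comp_apply] at h
    have e1 : ∀ z : R ⊗[k] H, Algebra.TensorProduct.lift (AlgHom.id k R)
        ((Algebra.ofId k R).comp (Bialgebra.counitAlgHom k H)) (fun _ _ => Commute.all _ _) z =
        TensorProduct.rid k R ((CoalgebraStruct.counit (R := k) (A := H)).lTensor R z) := by
      intro z
      induction z with
      | zero => simp
      | add p q hp hq => simp only [map_add, hp, hq]
      | tmul x y => simp [Algebra.smul_def, Algebra.ofId_apply, mul_comm]
    rw [e1, show (coactHom hmul hone) r = HopfRep.Comod.coact (k := k) (A := H) r from rfl, h]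
    simp

variable (A : Subalgebra k R)
    (hA : ∀ a : R, a ∈ A ↔ HopfRep.Comod.coact (k := k) (A := H) a = a ⊗ₜ[k] (1 : H))

include hmul hone hA

theorem moduleFinite [Algebra.FiniteType k R] : Module.Finite A R := by
  have : Algebra.IsIntegral A R := ⟨isIntegral (isCoaction_coactHom hmul hone) A hA⟩
  have : Algebra.FiniteType A R := Algebra.FiniteType.of_restrictScalars_finiteType k A R
  exact Algebra.IsIntegral.finite

theorem isNoetherianRing_invariants [Algebra.FiniteType k R] : IsNoetherianRing A := by
  have := moduleFinite hmul hone A hA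
  have : Algebra.FiniteType k A := ⟨fg_of_fg_of_fg k A R Algebra.FiniteType.out Module.Finite.fg_top
    Subtype.val_injective⟩
  exact Algebra.FiniteType.isNoetherianRing k A

theorem exists_retraction (hG : HopfRep.IsLinearlyReductive.{u, u} k H) :
    ∃ e : R →ₗ[A] A, ∀ a, e (algebraMap A R a) = a := by
  obtain ⟨E, hE⟩ := Comodule.exists_reynolds (k := k) (A := H) (V := R) hG
  have hmem : ∀ x, E x ∈ A := fun x => (hA _).2 (hE.mem x)
  have hlin : ∀ (a : A) (x : R), E ((a : R) * x) = (a : R) * E x := by
    intro a x
    have hf : Hoch.IsComodHom H (LinearMap.mulLeft k (a : R)) := by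
      refine LinearMap.ext fun y => ?_
      simp only [LinearMap.comp_apply, LinearMap.mulLeft_apply, hmul, (hA _).1 a.2]
      generalize HopfRep.Comod.coact (k := k) (A := H) y = z
      induction z with
      | zero => simp
      | add p q hp hq => simp only [map_add, mul_add, hp, hq]
      | tmul p q => simp
    exact LinearMap.congr_fun (hE.comp_comm hG hE hf) x
  refine ⟨{ toFun := fun x => ⟨E x, hmem x⟩
            map_add' := fun x y => Subtype.ext (map_add E x y)
            map_smul' := fun a x => Subtype.ext (hlin a x) }, fun a => Subtype.ext ?_⟩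
  exact (hE.fix _).2 ((hA _).1 a.2)

theorem height_eq [Algebra.FiniteType k R] (p : Ideal A) [p.IsPrime] (q : Ideal R) [q.IsPrime]
    (hq : q.comap (algebraMap A R) = p) : q.height = p.height := by
  have : Algebra.IsIntegral A R := ⟨isIntegral (isCoaction_coactHom hmul hone) A hA⟩
  have := hasGoingDown (isCoaction_coactHom hmul hone) A hA
  exact height_eq_of_comap_eq p q hq

theorem min_le_depth [Algebra.FiniteType k R] (r : ℕ) (hR : LocCoh.HasSk r R R) (p : Ideal A) [p.IsPrime] :
    min (r : ℕ∞) p.height ≤ LocCoh.depth (Localization.AtPrime p) (LocalizedModule p.primeCompl R) := by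
  have := moduleFinite hmul hone A hA
  have := isNoetherianRing_invariants hmul hone A hA
  obtain ⟨n, hn⟩ := ENat.ne_top_iff_exists.1 (ne_top_of_le_ne_top (ENat.coe_ne_top r) (min_le_left (r : ℕ∞) p.height))
  rw [← hn]
  refine natCast_le_depth_of_finite p n fun q _ hq => ?_
  have h := hR q
  rw [DepthLib.supportDim_eq_ringKrullDim_of_isPrime, DepthLib.depth_localizedModule_self,
    height_eq hmul hone A hA p q hq] at h
  rw [hn]
  exact_mod_cast h

theorem hasSk_invariants [Algebra.FiniteType k R] (hG : HopfRep.IsLinearlyReductive.{u, u} k H)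
    (r : ℕ) (hR : LocCoh.HasSk r R R) : LocCoh.HasSk r A R ∧ LocCoh.HasSk r A A := by
  have := moduleFinite hmul hone A hA
  obtain ⟨e, he⟩ := exists_retraction hmul hone A hA hG
  refine ⟨fun p _ => ?_, fun p _ => ?_⟩
  · rw [supportDim_localized_eq_height Subtype.val_injective p]
    exact_mod_cast min_le_depth hmul hone A hA r hR p
  · rw [DepthLib.supportDim_eq_ringKrullDim_of_isPrime]
    exact_mod_cast (min_le_depth hmul hone A hA r hR p).trans (depth_le_retract e he p)

theorem isCohenMacaulay_invariants [Algebra.FiniteType k R] (hG : HopfRep.IsLinearlyReductive.{u, u} k H)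
    (hR : LocCoh.IsCohenMacaulayRing R) :
    LocCoh.IsCohenMacaulayRing A ∧ ∀ (p : Ideal A) [p.IsPrime],
      LocCoh.IsCohenMacaulayModule (Localization.AtPrime p) (LocalizedModule p.primeCompl R) ∧
        Module.supportDim (Localization.AtPrime p) (LocalizedModule p.primeCompl R) =
          ringKrullDim (Localization.AtPrime p) := by
  have := moduleFinite hmul hone A hA
  have := isNoetherianRing_invariants hmul hone A hA
  obtain ⟨e, he⟩ := exists_retraction hmul hone A hA hG
  have hinj : Function.Injective (algebraMap A R) := Subtype.val_injective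
  have hdepth : ∀ (p : Ideal A) [p.IsPrime],
      p.height ≤ LocCoh.depth (Localization.AtPrime p) (LocalizedModule p.primeCompl R) := by
    intro p _
    obtain ⟨n, hn⟩ := ENat.ne_top_iff_exists.1 (Ideal.height_ne_top (I := p) Ideal.IsPrime.ne_top')
    rw [← hn]
    refine natCast_le_depth_of_finite p n fun q _ hq => ?_
    have h := (hR.isCohenMacaulayLocalRing_localization q).supportDim_eq_depth
    rw [Module.supportDim_self_eq_ringKrullDim, IsLocalization.AtPrime.ringKrullDim_eq_height q,
      height_eq hmul hone A hA p q hq, ← hn] at h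
    exact le_of_eq (by exact_mod_cast h)
  have hdim : ∀ (p : Ideal A) [p.IsPrime], ringKrullDim (Localization.AtPrime p) = (p.height : WithBot ℕ∞) :=
    fun p _ => IsLocalization.AtPrime.ringKrullDim_eq_height p _
  refine ⟨⟨fun p _ => ⟨le_antisymm ?_ DepthLib.depth_le_supportDim⟩⟩, fun p _ => ⟨le_antisymm ?_ ?_, ?_⟩⟩
  · rw [Module.supportDim_self_eq_ringKrullDim, hdim, ← DepthLib.depth_localizedModule_self]
    exact WithBot.coe_le_coe.2 ((hdepth p).trans (depth_le_retract e he p))
  · rw [supportDim_localized_eq_height hinj p]
    exact WithBot.coe_le_coe.2 (hdepth p)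
  · have : Nontrivial (LocalizedModule p.primeCompl R) := by
      have h := supportDim_localized_eq_height hinj p
      rw [← Module.supportDim_ne_bot_iff_nontrivial (Localization.AtPrime p), h]
      exact WithBot.coe_ne_bot
    have : Module.Finite (Localization.AtPrime p) (LocalizedModule p.primeCompl R) :=
      Module.Finite.of_isLocalizedModule p.primeCompl (LocalizedModule.mkLinearMap p.primeCompl R)
    exact DepthLib.depth_le_supportDim
  · rw [supportDim_localized_eq_height hinj p, hdim]

end Groth.Agent.FinGrpInv
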